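import Groth.Agent.DPdR.Ops
import Groth.Agent.ExtBC.ExtPow

/-!
The divided power differentials of a divided power polynomial algebra.
-/

set_option autoImplicit false
set_option backward.isDefEq.respectTransparency false
set_option linter.style.haveILetI false
set_option linter.unusedSectionVars false

universe u v w

open scoped TensorProduct

namespace Groth.Agent.DPdR

/-- The relations of divided power differentials can be checked on generators of the ideal. -/
theorem dp_rel {R : Type v} {P : Type u} {M : Type w} [CommRing R] [CommRing P] [Algebra R P] [AddCommGroup M]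
    [Module P M] [Module R M] (D : Derivation R P M) {I : Ideal P} (γ : DividedPowers I) {S : Set P}
    (hS : I ≤ Ideal.span S) (hSI : S ⊆ I)
    (h : ∀ s ∈ S, ∀ m, D (γ.dpow (m + 1) s) = γ.dpow m s • D s) :
    ∀ x ∈ I, ∀ m, D (γ.dpow (m + 1) x) = γ.dpow m x • D x := by
  intro x hx
  have hx' := hS hx
  induction hx' using Submodule.span_induction with
  | mem s hs => exact h s hs
  | zero =>
    intro m
    rw [γ.dpow_eval_zero (Nat.succ_ne_zero m), map_zero, smul_zero]
  | add a c ha hc iha ihc =>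
    intro m
    have haI : a ∈ I := Ideal.span_le.2 hSI ha
    have hcI : c ∈ I := Ideal.span_le.2 hSI hc
    rw [γ.dpow_add haI hcI, map_sum]
    simp only [Derivation.leibniz, Finset.sum_add_distrib]
    rw [Finset.Nat.sum_antidiagonal_succ' (f := fun k => γ.dpow k.1 a • D (γ.dpow k.2 c)),
      Finset.Nat.sum_antidiagonal_succ (f := fun k => γ.dpow k.2 c • D (γ.dpow k.1 a)),
      γ.dpow_zero haI, γ.dpow_zero hcI, Derivation.map_one_eq_zero, smul_zero, smul_zero, zero_add, zero_add,
      Finset.sum_congr rfl fun k _ => by rw [ihc hcI k.2, smul_smul]]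
    conv_lhs => arg 2; rw [Finset.sum_congr rfl fun k _ => by rw [iha haI k.1, smul_smul, mul_comm]]
    rw [← Finset.sum_smul, ← Finset.sum_smul, map_add, smul_add, γ.dpow_add haI hcI, add_comm]
  | smul a c hc ihc =>
    intro m
    have hcI : c ∈ I := Ideal.span_le.2 hSI hc
    have h1 : c * γ.dpow m c = ((m + 1 : ℕ) : P) * γ.dpow (m + 1) c := by
      conv_lhs => rw [← γ.dpow_one hcI]
      rw [γ.dpow_one hcI] at *
      have := γ.mul_dpow (m := 1) (n := m) hcI
      rw [γ.dpow_one hcI, Nat.add_comm 1 m, Nat.choose_one_right] at this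
      exact this
    rw [smul_eq_mul, γ.dpow_mul hcI, γ.dpow_mul hcI, Derivation.leibniz, Derivation.leibniz, ihc hcI,
      Derivation.leibniz_pow, Nat.add_sub_cancel, ← Nat.cast_smul_eq_nsmul P]
    simp only [smul_add, smul_smul, pow_succ]
    rw [show a ^ m * γ.dpow m c * c = ((m + 1 : ℕ) : P) * (a ^ m * γ.dpow (m + 1) c) by
      rw [mul_assoc, mul_comm (γ.dpow m c), h1]; ring]
    congr 1 <;> congr 1 <;> ring

variable {R : Type v} [CommRing R] {B : Type u} [CommRing B] [Algebra R B] {P : Type u} [CommRing P] [Algebra B P]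
  [Algebra R P] [IsScalarTower R B P] {J : Ideal B} (δ : DividedPowers J) {JP : Ideal P} (δP : DividedPowers JP)
  (hmor : δ.IsDPMorphism δP (algebraMap B P))
  {NB : Submodule B (Ω[B⁄R])}
  (hNB : NB = Submodule.span B {ω : Ω[B⁄R] | ∃ x ∈ J, ∃ m : ℕ,
    ω = KaehlerDifferential.D R B (δ.dpow (m + 1) x) - δ.dpow m x • KaehlerDifferential.D R B x})
  {NP : Submodule P (Ω[P⁄R])}
  (hNP : NP = Submodule.span P {ω : Ω[P⁄R] | ∃ x ∈ JP, ∃ m : ℕ,
    ω = KaehlerDifferential.D R P (δP.dpow (m + 1) x) - δP.dpow m x • KaehlerDifferential.D R P x})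
  {n : ℕ} (X : Fin n → P) (hX : ∀ i, X i ∈ JP)

/-- The universal divided power derivation. -/
noncomputable abbrev dd {A : Type u} [CommRing A] [Algebra R A] (N : Submodule A (Ω[A⁄R])) :
    Derivation R A (Ω[A⁄R] ⧸ N) :=
  N.mkQ.compDer (KaehlerDifferential.D R A)

lemma span_dd {A : Type u} [CommRing A] [Algebra R A] (N : Submodule A (Ω[A⁄R])) :
    Submodule.span A (Set.range (dd N)) = ⊤ := by
  rw [show (Set.range (dd N)) = N.mkQ '' Set.range (KaehlerDifferential.D R A) by
      rw [← Set.range_comp]; rfl,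
    Submodule.span_image, KaehlerDifferential.span_range_derivation, Submodule.map_top, Submodule.range_mkQ]

include hNP in
lemma dd_dpow {x : P} (hx : x ∈ JP) (m : ℕ) :
    dd NP (δP.dpow (m + 1) x) = δP.dpow m x • dd NP x := by
  rw [← sub_eq_zero]
  change NP.mkQ _ - _ • NP.mkQ _ = 0
  rw [← map_smul, ← map_sub, Submodule.mkQ_apply, Submodule.Quotient.mk_eq_zero, hNP]
  exact Submodule.subset_span ⟨x, hx, m, rfl⟩

include hNB in
lemma dd_dpow' {x : B} (hx : x ∈ J) (m : ℕ) :
    dd NB (δ.dpow (m + 1) x) = δ.dpow m x • dd NB x := by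
  rw [← sub_eq_zero]
  change NB.mkQ _ - _ • NB.mkQ _ = 0
  rw [← map_smul, ← map_sub, Submodule.mkQ_apply, Submodule.Quotient.mk_eq_zero, hNB]
  exact Submodule.subset_span ⟨x, hx, m, rfl⟩

include hmor hNB hNP in
lemma le_ker : NB ≤ LinearMap.ker ((NP.mkQ.restrictScalars B).comp (KaehlerDifferential.map R R B P)) := by
  conv_lhs => rw [hNB]
  rw [Submodule.span_le]
  rintro _ ⟨x, hx, m, rfl⟩
  rw [SetLike.mem_coe, LinearMap.mem_ker]
  simp only [LinearMap.comp_apply, map_sub, LinearMap.map_smul, KaehlerDifferential.map_D,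
    LinearMap.restrictScalars_apply]
  rw [← algebraMap_smul P (δ.dpow m x), ← hmor.dpow_comp x hx, ← hmor.dpow_comp x hx]
  exact sub_eq_zero.2 (dd_dpow δP hNP (hmor.ideal_comp (Ideal.mem_map_of_mem _ hx)) m)

/-- Functoriality of divided power differentials. -/
noncomputable def sigma (h : NB ≤ LinearMap.ker ((NP.mkQ.restrictScalars B).comp (KaehlerDifferential.map R R B P))) :
    (Ω[B⁄R] ⧸ NB) →ₗ[B] (Ω[P⁄R] ⧸ NP) := NB.liftQ _ h

lemma sigma_dd (h : NB ≤ LinearMap.ker ((NP.mkQ.restrictScalars B).comp (KaehlerDifferential.map R R B P))) (a : B) :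
    sigma h (dd NB a) = dd NP (algebraMap B P a) := by
  change NP.mkQ (KaehlerDifferential.map R R B P (KaehlerDifferential.D R B a)) = _
  rw [KaehlerDifferential.map_D]
  rfl

/-- The comparison map from constant forms of degree one. -/
noncomputable def fV (h : NB ≤ LinearMap.ker ((NP.mkQ.restrictScalars B).comp (KaehlerDifferential.map R R B P))) :
    (Ω[B⁄R] ⧸ NB) × (Fin n → B) →ₗ[B] (Ω[P⁄R] ⧸ NP) :=
  (sigma h).coprod (Fintype.linearCombination B fun i => dd NP (X i))

variable (b : Module.Basis (Fin n →₀ ℕ) B P) (hb : ∀ e : Fin n →₀ ℕ, b e = e.prod fun i k => δP.dpow k (X i))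
  (hJP : JP ≤ J.map (algebraMap B P) ⊔ Ideal.span {y : P | ∃ (i : Fin n) (k : ℕ), 1 ≤ k ∧ y = δP.dpow k (X i)})

lemma ind {p : P} {Q : P → Prop} (h0 : Q 0) (hadd : ∀ p q, Q p → Q q → Q (p + q))
    (hgen : ∀ (c : B) (e : Fin n →₀ ℕ), Q (c • b e)) : Q p := by
  rw [← b.linearCombination_repr p, Finsupp.linearCombination_apply]
  exact Finset.sum_induction _ Q hadd h0 fun e _ => hgen _ e

/-- Differentiating the coefficients. -/
noncomputable def d0 : P →ₗ[R] P ⊗[B] ((Ω[B⁄R] ⧸ NB) × (Fin n → B)) :=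
  (Finsupp.lsum R fun e : Fin n →₀ ℕ =>
      ((TensorProduct.mk B P ((Ω[B⁄R] ⧸ NB) × (Fin n → B)) (b e)).restrictScalars R) ∘ₗ
        ((LinearMap.inl B (Ω[B⁄R] ⧸ NB) (Fin n → B)).restrictScalars R) ∘ₗ
          (dd NB).toLinearMap) ∘ₗ
    b.repr.toLinearMap.restrictScalars R

lemma d0_smul (c : B) (e : Fin n →₀ ℕ) :
    d0 (R := R) (NB := NB) b (c • b e) = b e ⊗ₜ (dd NB c, (0 : Fin n → B)) := by
  rw [d0, LinearMap.comp_apply, LinearMap.restrictScalars_apply, LinearEquiv.coe_coe, map_smul, b.repr_self,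
    Finsupp.smul_single, smul_eq_mul, mul_one, Finsupp.lsum_single]
  rfl

include hX hb in
lemma d0_mul (p q : P) : d0 (R := R) (NB := NB) b (p * q) =
    p • d0 (R := R) (NB := NB) b q + q • d0 (R := R) (NB := NB) b p := by
  induction p using ind b with
  | h0 => simp
  | hadd p p' hp hp' => rw [add_mul, map_add, hp, hp', map_add, add_smul, smul_add]; abel
  | hgen c e =>
    induction q using ind b with
    | h0 => simp
    | hadd q q' hq hq' => rw [mul_add, map_add, hq, hq', map_add, add_smul, smul_add]; abel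
    | hgen c' e' =>
      obtain ⟨N, hN⟩ := b_mul b (x := fun i k => δP.dpow k (X i)) (fun i => δP.dpow_zero (hX i))
        (fun i k m => δP.mul_dpow (hX i)) hb e e'
      rw [d0_smul, d0_smul, smul_mul_smul_comm, hN, ← nsmul_eq_mul, smul_comm, map_nsmul, d0_smul,
        TensorProduct.smul_tmul', TensorProduct.smul_tmul', TensorProduct.smul_tmul', smul_eq_mul, smul_eq_mul,
        smul_mul_assoc, smul_mul_assoc, mul_comm (b e') (b e), hN, ← nsmul_eq_mul, Derivation.leibniz,
        show (c • dd NB c' + c' • dd NB c, (0 : Fin n → B)) =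
          c • (dd NB c', (0 : Fin n → B)) + c' • (dd NB c, (0 : Fin n → B)) by simp [Prod.smul_mk],
        TensorProduct.tmul_add, TensorProduct.tmul_smul, TensorProduct.tmul_smul, TensorProduct.smul_tmul',
        TensorProduct.smul_tmul']

/-- The derivation to the split model of differentials. -/
noncomputable def dE : Derivation R P (P ⊗[B] ((Ω[B⁄R] ⧸ NB) × (Fin n → B))) :=
  Derivation.mk'
    (d0 (R := R) (NB := NB) b + ∑ j : Fin n,
      ((TensorProduct.mk B P ((Ω[B⁄R] ⧸ NB) × (Fin n → B))).flip (0, Pi.single j 1)).restrictScalars R ∘ₗ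
        (dn b j).restrictScalars R)
    fun p q => by
      simp only [LinearMap.add_apply, LinearMap.sum_apply, LinearMap.comp_apply,
        LinearMap.restrictScalars_apply, LinearMap.flip_apply, TensorProduct.mk_apply, smul_add, Finset.smul_sum]
      rw [d0_mul δP X hX b hb, add_add_add_comm, ← Finset.sum_add_distrib]
      congr 1
      refine Finset.sum_congr rfl fun j _ => ?_
      rw [dn_mul b j (x := fun i k => δP.dpow k (X i)) (fun i => δP.dpow_zero (hX i))
        (fun i k m => δP.mul_dpow (hX i)) hb, TensorProduct.smul_tmul', TensorProduct.smul_tmul',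
        smul_eq_mul, smul_eq_mul, TensorProduct.add_tmul]

lemma dE_apply (p : P) : dE (R := R) (NB := NB) δP X hX b hb p = d0 (R := R) (NB := NB) b p +
    ∑ j : Fin n, dn b j p ⊗ₜ[B] ((0 : Ω[B⁄R] ⧸ NB), (Pi.single j 1 : Fin n → B)) := by
  simp [dE]

include hb hX in
lemma dE_algebraMap (c : B) :
    dE (R := R) (NB := NB) δP X hX b hb (algebraMap B P c) = 1 ⊗ₜ (dd NB c, (0 : Fin n → B)) := by
  have h1 : b 0 = 1 := b_zero b (x := fun i k => δP.dpow k (X i)) hb
  rw [Algebra.algebraMap_eq_smul_one, ← h1, dE_apply, d0_smul]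
  simp [dn_b]

include hb hX in
lemma dE_x (i : Fin n) (k : ℕ) : dE (R := R) (NB := NB) δP X hX b hb (δP.dpow (k + 1) (X i)) =
    δP.dpow k (X i) ⊗ₜ ((0 : Ω[B⁄R] ⧸ NB), (Pi.single i 1 : Fin n → B)) := by
  have hx0 : ∀ i, (fun i k => δP.dpow k (X i)) i 0 = 1 := fun i => δP.dpow_zero (hX i)
  rw [dE_apply, Finset.sum_eq_single i]
  · rw [dn_x b i (x := fun i k => δP.dpow k (X i)) hx0 hb i k, if_pos rfl,
      x_eq b i (x := fun i k => δP.dpow k (X i)) hx0 hb (k + 1)]
    conv_lhs => arg 1; rw [← one_smul B (b _), d0_smul, Derivation.map_one_eq_zero, Prod.mk_zero_zero,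
      TensorProduct.tmul_zero]
    rw [zero_add]
  · intro j _ hj
    rw [dn_x b j (x := fun i k => δP.dpow k (X i)) hx0 hb i k, if_neg hj.symm, TensorProduct.zero_tmul]
  · simp

include hmor hNB hJP in
lemma dE_rel : ∀ x ∈ JP, ∀ m, dE (R := R) (NB := NB) δP X hX b hb (δP.dpow (m + 1) x) =
    δP.dpow m x • dE (R := R) (NB := NB) δP X hX b hb x := by
  refine dp_rel _ δP (S := (algebraMap B P '' (J : Set B)) ∪
    {y : P | ∃ (i : Fin n) (k : ℕ), 1 ≤ k ∧ y = δP.dpow k (X i)}) (hJP.trans ?_) ?_ ?_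
  · rw [Ideal.span_union]; exact le_rfl
  · rintro _ (⟨a, ha, rfl⟩ | ⟨i, k, hk, rfl⟩)
    · exact hmor.ideal_comp (Ideal.mem_map_of_mem _ ha)
    · exact δP.dpow_mem (by omega) (hX i)
  · rintro _ (⟨a, ha, rfl⟩ | ⟨i, k, hk, rfl⟩) m
    · rw [hmor.dpow_comp a ha, hmor.dpow_comp a ha, dE_algebraMap, dE_algebraMap, dd_dpow' δ hNB ha m,
        algebraMap_smul, ← TensorProduct.tmul_smul]
      simp [Prod.smul_mk]
    · obtain ⟨k, rfl⟩ := Nat.exists_eq_add_of_le' hk
      rw [δP.dpow_comp (by omega) (hX i), δP.dpow_comp (by omega) (hX i),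
        show (m + 1) * (k + 1) = (m * (k + 1) + k) + 1 by ring, dE_x, ← nsmul_eq_mul, map_nsmul, dE_x,
        TensorProduct.smul_tmul', TensorProduct.smul_tmul', smul_eq_mul, mul_assoc, δP.mul_dpow (hX i),
        nsmul_eq_mul, Nat.uniformBell_succ_left, show m * (k + 1) + (k + 1) - 1 = m * (k + 1) + k by omega,
        Nat.add_sub_cancel, Nat.choose_symm_add]
      push_cast
      congr 1
      ring

include hmor hNB hNP hJP hb hX in
lemma le_ker' : NP ≤ LinearMap.ker (dE (R := R) (NB := NB) δP X hX b hb).liftKaehlerDifferential := by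
  conv_lhs => rw [hNP]
  rw [Submodule.span_le]
  rintro _ ⟨x, hx, m, rfl⟩
  rw [SetLike.mem_coe, LinearMap.mem_ker, map_sub, map_smul, Derivation.liftKaehlerDifferential_comp_D,
    Derivation.liftKaehlerDifferential_comp_D, dE_rel δ δP hmor hNB X hX b hb hJP x hx m, sub_self]

include hNP hb hX in
/-- The differential of a monomial. -/
lemma dd_b (e : Fin n →₀ ℕ) : dd NP (b e) = ∑ j, dn b j (b e) • dd NP (X j) := by
  have hx0 : ∀ i, (fun i k => δP.dpow k (X i)) i 0 = 1 := fun i => δP.dpow_zero (hX i)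
  rw [DPowLib.basis_eq hx0 b hb]
  refine Finset.prod_induction _ (fun q => dd NP q = ∑ j, dn b j q • dd NP (X j)) (fun p q hp hq => ?_) ?_ ?_
  · simp only [dn_mul b _ (x := fun i k => δP.dpow k (X i)) hx0 (fun i k m => δP.mul_dpow (hX i)) hb, add_smul,
      Finset.sum_add_distrib]
    rw [Derivation.leibniz, hp, hq, Finset.smul_sum, Finset.smul_sum]
    simp only [smul_smul]
  · rw [Derivation.map_one_eq_zero, ← b_zero b (x := fun i k => δP.dpow k (X i)) hb]
    simp [dn_b]
  · intro i _
    rcases h : e i with _ | k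
    · change dd NP (δP.dpow 0 (X i)) = _
      rw [δP.dpow_zero (hX i), Derivation.map_one_eq_zero, Finset.sum_eq_zero]
      intro j _
      rw [← b_zero b (x := fun i k => δP.dpow k (X i)) hb, dn_b]
      simp
    · simp only [dn_x b _ (x := fun i k => δP.dpow k (X i)) hx0 hb, ite_smul, zero_smul,
        Finset.sum_ite_eq, Finset.mem_univ, if_true]
      exact dd_dpow δP hNP (hX i) k

include hmor hNB hNP hJP hb hX in
/-- Divided power differentials of the polynomial algebra are the split ones. -/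
theorem isBaseChange_fV : IsBaseChange P (fV X (le_ker δ δP hmor hNB hNP)) := by
  let L := (fV X (le_ker δ δP hmor hNB hNP)).liftBaseChange P
  let K : (Ω[P⁄R] ⧸ NP) →ₗ[P] P ⊗[B] ((Ω[B⁄R] ⧸ NB) × (Fin n → B)) :=
    NP.liftQ (dE (R := R) (NB := NB) δP X hX b hb).liftKaehlerDifferential
      (le_ker' δ δP hmor hNB hNP X hX b hb hJP)
  have hK : ∀ p, K (dd NP p) = dE (R := R) (NB := NB) δP X hX b hb p := fun p => by
    show Derivation.liftKaehlerDifferential _ (KaehlerDifferential.D R P p) = _
    rw [Derivation.liftKaehlerDifferential_comp_D]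
  have h1 : L ∘ₗ K = LinearMap.id := by
    refine LinearMap.ext_on (span_dd NP) ?_
    rintro _ ⟨p, rfl⟩
    rw [LinearMap.comp_apply, hK, LinearMap.id_apply]
    induction p using ind b with
    | h0 => simp
    | hadd p q hp hq => rw [map_add, map_add, map_add, hp, hq]
    | hgen c e =>
      rw [dE_apply, d0_smul, map_add, map_sum, Algebra.smul_def, Derivation.leibniz,
        dd_b δP hNP X hX b hb, ← Algebra.smul_def]
      simp only [L, LinearMap.liftBaseChange_tmul, fV, LinearMap.coprod_apply, map_zero, add_zero, zero_add,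
        sigma_dd, Fintype.linearCombination_apply_single, one_smul, map_smul, Finset.smul_sum, smul_assoc,
        algebraMap_smul]
      rw [add_comm]
  have h2 : K ∘ₗ L = LinearMap.id := by
    refine TensorProduct.AlgebraTensorModule.ext fun p v => ?_
    rw [show p ⊗ₜ[B] v = p • ((1 : P) ⊗ₜ[B] v) by rw [TensorProduct.smul_tmul', smul_eq_mul, mul_one],
      map_smul, map_smul]
    congr 1
    obtain ⟨ω, c⟩ := v
    simp only [LinearMap.comp_apply, LinearMap.id_apply, L, LinearMap.liftBaseChange_tmul, one_smul, fV,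
      LinearMap.coprod_apply, map_add]
    rw [show (ω, c) = (ω, (0 : Fin n → B)) + (0, c) by simp, TensorProduct.tmul_add]
    congr 1
    · have hω : ω ∈ Submodule.span B (Set.range (dd NB)) := span_dd NB ▸ Submodule.mem_top
      induction hω using Submodule.span_induction with
      | mem z hz =>
        obtain ⟨a, rfl⟩ := hz
        simp only [Prod.fst_add, add_zero, sigma_dd, hK, dE_algebraMap]
      | zero => simp [show ((0 : Ω[B⁄R] ⧸ NB), (0 : Fin n → B)) = 0 from rfl]
      | add a c _ _ ha hc =>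
        simp only [Prod.fst_add, add_zero, map_add] at ha hc ⊢
        rw [ha, hc, ← TensorProduct.tmul_add]
        simp
      | smul a ω _ ha =>
        simp only [Prod.fst_add, add_zero, LinearMap.map_smul] at ha ⊢
        rw [LinearMap.map_smul_of_tower, ha, ← TensorProduct.tmul_smul]
        simp [Prod.smul_mk]
    · simp only [Prod.snd_add, zero_add, Fintype.linearCombination_apply, map_sum,
        LinearMap.map_smul_of_tower]
      conv_rhs => rw [pi_eq_sum_univ' c]
      rw [← LinearMap.inr_apply (R := B), map_sum, TensorProduct.tmul_sum]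
      refine Finset.sum_congr rfl fun j _ => ?_
      rw [hK, ← δP.dpow_one (hX j), dE_x, δP.dpow_zero (hX j), ← TensorProduct.tmul_smul]
      simp [Prod.smul_mk]
  exact IsBaseChange.of_equiv (LinearEquiv.ofLinearMap L K h1 h2) fun v => by
    show L (1 ⊗ₜ v) = _
    rw [LinearMap.liftBaseChange_tmul, one_smul]

end Groth.Agent.DPdR
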