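import Groth.Agent.DPdR.Ops
import Groth.Agent.ExtBC.ExtPow
import Groth.Agent.DRPoincare.Basic
import Groth.Prelude.Def_DeRham

/-!
The homotopy integrating one variable, on forms with a split module of differentials.
-/

set_option autoImplicit false
set_option backward.isDefEq.respectTransparency false
set_option linter.style.haveILetI false
set_option linter.unusedSectionVars false

universe u v

open exteriorPower TensorProduct
open scoped Classical

namespace Groth.Agent.DPdR

/-- Forms are additively generated by `a • δb₁ ∧ ⋯ ∧ δb_q`. -/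
theorem span_induction_forms {A M : Type u} [CommRing A] [AddCommGroup M] [Module A M] {ι : Type*} (g : ι → M)
    (hg : Submodule.span A (Set.range g) = ⊤) {q : ℕ} {P : ↥(⋀[A]^q M) → Prop} (h0 : P 0)
    (hadd : ∀ x y, P x → P y → P (x + y)) (hgen : ∀ (a : A) (v : Fin q → ι), P (a • ιMulti A q fun k => g (v k)))
    (x : ↥(⋀[A]^q M)) : P x := by
  have hx : x ∈ Submodule.span A (Set.range fun v : Fin q → ι => ιMulti A q fun k => g (v k)) := by
    refine (?_ : ⊤ ≤ Submodule.span A _) (Submodule.mem_top (x := x))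
    rw [← ιMulti_span_of_span A q M hg]
    refine Submodule.span_mono ?_
    rintro _ ⟨v, hv, rfl⟩
    choose c hc using fun k => hv (Set.mem_range_self k)
    exact ⟨c, congrArg _ (funext hc)⟩
  suffices h : ∀ a : A, P (a • x) by simpa using h 1
  induction hx using Submodule.span_induction with
  | zero => intro a; rwa [smul_zero]
  | add u v _ _ hu hv => intro a; rw [smul_add]; exact hadd _ _ (hu a) (hv a)
  | smul c u _ hu => intro a; rw [smul_smul]; exact hu _
  | mem z hz => obtain ⟨v, rfl⟩ := hz; exact fun a => hgen a v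

variable {R : Type v} [CommRing R] {B : Type u} [CommRing B] [Algebra R B] {P : Type u} [CommRing P] [Algebra B P]
  [Algebra R P] [IsScalarTower R B P] {M : Type u} [AddCommGroup M] [Module P M] [Module R M] [IsScalarTower R P M]
  [Module B M] [IsScalarTower B P M] {V : Type u} [AddCommGroup V] [Module B V]
  {D : Derivation R P M} {n : ℕ} {X : Fin n → P} {b : Module.Basis (Fin n →₀ ℕ) B P}

variable (D X) in
/-- Wedges of differentials of constants and variables. -/
noncomputable def mon (q : ℕ) (v : Fin q → B ⊕ Fin n) : ↥(⋀[P]^q M) :=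
  ιMulti P q fun k => D (Sum.elim (algebraMap B P) X (v k))

variable (D X) in
/-- Forms with constant coefficients. -/
def Cst (q : ℕ) : AddSubgroup ↥(⋀[P]^q M) := AddSubgroup.closure (Set.range (mon (B := B) D X q))

lemma mon_mem (q : ℕ) (v : Fin q → B ⊕ Fin n) : mon D X q v ∈ Cst (B := B) D X q :=
  AddSubgroup.subset_closure ⟨v, rfl⟩

lemma mon_cons (q : ℕ) (s : B ⊕ Fin n) (v : Fin q → B ⊕ Fin n) :
    mon D X (q + 1) (Fin.cons s v) = DRPoincare.wedge q (D (Sum.elim (algebraMap B P) X s)) (mon D X q v) := by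
  rw [mon, mon, DRPoincare.wedge_ιMulti]
  congr 1
  funext k
  refine Fin.cases ?_ (fun j => ?_) k <;> simp

lemma wedge_mem {q : ℕ} (s : B ⊕ Fin n) {x : ↥(⋀[P]^q M)} (hx : x ∈ Cst (B := B) D X q) :
    DRPoincare.wedge q (D (Sum.elim (algebraMap B P) X s)) x ∈ Cst (B := B) D X (q + 1) := by
  induction hx using AddSubgroup.closure_induction with
  | mem z hz => obtain ⟨v, rfl⟩ := hz; rw [← mon_cons]; exact mon_mem _ _
  | zero => rw [map_zero]; exact zero_mem _
  | add a c _ _ ha hc => rw [map_add]; exact add_mem ha hc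
  | neg a _ ha => rw [map_neg]; exact neg_mem ha

lemma wedge_self (q : ℕ) (m : M) (x : ↥(⋀[P]^q M)) :
    DRPoincare.wedge (q + 1) m (DRPoincare.wedge q m x) = 0 := by
  apply Subtype.ext
  rw [DRPoincare.coe_wedge, DRPoincare.coe_wedge, ← mul_assoc, ExteriorAlgebra.ι_sq_zero, zero_mul,
    Submodule.coe_zero]

variable (i : Fin n) {φ : M →ₗ[P] P}
  (hφ : ∀ s, φ (D (Sum.elim (algebraMap B P) X s)) = if s = Sum.inr i then 1 else 0)

include hφ in
lemma contr_mon : ∀ (q : ℕ) (v : Fin (q + 1) → B ⊕ Fin n),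
    DRPoincare.contr φ q (mon D X (q + 1) v) ∈ Cst (B := B) D X q ∧
      mon D X (q + 1) v - DRPoincare.wedge q (D (X i)) (DRPoincare.contr φ q (mon D X (q + 1) v)) =
        if ∃ k, v k = Sum.inr i then 0 else mon D X (q + 1) v := by
  intro q
  induction q with
  | zero =>
    intro v
    obtain ⟨s, w, rfl⟩ : ∃ s w, v = Fin.cons s w := ⟨v 0, Fin.tail v, (Fin.cons_self_tail v).symm⟩
    rw [mon_cons, DRPoincare.contr_wedge_zero, hφ]
    split_ifs with h1 h2 h2
    · subst h1
      exact ⟨by rw [one_smul]; exact mon_mem _ _, by rw [one_smul]; exact sub_self _⟩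
    · exact absurd ⟨0, by simpa using h1⟩ h2
    · obtain ⟨k, hk⟩ := h2
      fin_cases k
      exact absurd (by simpa using hk) h1
    · exact ⟨by rw [zero_smul]; exact zero_mem _, by rw [zero_smul, map_zero, sub_zero]⟩
  | succ q ih =>
    intro v
    obtain ⟨s, w, rfl⟩ : ∃ s w, v = Fin.cons s w := ⟨v 0, Fin.tail v, (Fin.cons_self_tail v).symm⟩
    obtain ⟨h1, h2⟩ := ih w
    rw [mon_cons, DRPoincare.contr_wedge, hφ]
    refine ⟨sub_mem ?_ (wedge_mem _ h1), ?_⟩
    · split_ifs
      · rw [one_smul]; exact mon_mem _ _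
      · rw [zero_smul]; exact zero_mem _
    by_cases hs : s = Sum.inr i
    · subst hs
      rw [if_pos rfl, one_smul, if_pos ⟨0, by simp⟩, Sum.elim_inr, map_sub, wedge_self, sub_zero, sub_self]
    · rw [if_neg hs, zero_smul, zero_sub, map_neg, sub_neg_eq_add, DRPoincare.wedge_wedge, ← sub_eq_add_neg,
        ← map_sub, h2]
      have hiff : (∃ k, (Fin.cons s w : Fin (q + 2) → B ⊕ Fin n) k = Sum.inr i) ↔ ∃ k, w k = Sum.inr i :=
        ⟨fun ⟨k, hk⟩ => Fin.cases (fun h => absurd (by simpa using h) hs) (fun j h => ⟨j, by simpa using h⟩) k hk,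
          fun ⟨k, hk⟩ => ⟨k.succ, by simpa using hk⟩⟩
      split_ifs with h3 h4 h4
      · rw [map_zero]
      · exact absurd (hiff.2 h3) h4
      · exact absurd (hiff.1 h4) h3
      · rfl

variable {f : V →ₗ[B] M} (hf : IsBaseChange P f) (vv : B ⊕ Fin n → V)
  (hvv : ∀ s, f (vv s) = D (Sum.elim (algebraMap B P) X s))

variable (b) in
/-- Integration of coefficients. -/
noncomputable def integ (q : ℕ) : ↥(⋀[P]^q M) →ₗ[B] ↥(⋀[P]^q M) :=
  (ExtBC.isBaseChange_extMap hf q).equiv.toLinearMap.restrictScalars B ∘ₗ (up b i).rTensor _ ∘ₗ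
    (ExtBC.isBaseChange_extMap hf q).equiv.symm.toLinearMap.restrictScalars B

include hvv in
lemma integ_smul (q : ℕ) (p : P) {x : ↥(⋀[P]^q M)} (hx : x ∈ Cst (B := B) D X q) :
    integ b i hf q (p • x) = up b i p • x := by
  induction hx using AddSubgroup.closure_induction with
  | zero => simp
  | add a c _ _ ha hc => rw [smul_add, map_add, ha, hc, smul_add]
  | neg a _ ha => rw [smul_neg, map_neg, ha, smul_neg]
  | mem z hz =>
    obtain ⟨v, rfl⟩ := hz
    have h1 : mon D X q v = ExtBC.extMap P f q (ιMulti B q fun k => vv (v k)) := by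
      rw [ExtBC.extMap_ιMulti, mon]
      simp only [hvv]
    have h2 : (ExtBC.isBaseChange_extMap hf q).equiv.symm (p • mon D X q v) =
        p ⊗ₜ[B] (ιMulti B q fun k => vv (v k)) := by
      rw [LinearEquiv.symm_apply_eq, IsBaseChange.equiv_tmul, h1]
    show (ExtBC.isBaseChange_extMap hf q).equiv ((up b i).rTensor _
      ((ExtBC.isBaseChange_extMap hf q).equiv.symm (p • mon D X q v))) = _
    rw [h2, LinearMap.rTensor_tmul, IsBaseChange.equiv_tmul, h1]

variable {d : ∀ q : ℕ, ↥(⋀[P]^q M) →ₗ[R] ↥(⋀[P]^(q + 1) M)} (hd : DeRham.IsDiff D d)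

include hd in
lemma d_smul_cst (q : ℕ) (p : P) {x : ↥(⋀[P]^q M)} (hx : x ∈ Cst (B := B) D X q) :
    d q (p • x) = DRPoincare.wedge q (D p) x := by
  induction hx using AddSubgroup.closure_induction with
  | zero => simp
  | add a c _ _ ha hc => rw [smul_add, map_add, ha, hc, map_add]
  | neg a _ ha => rw [smul_neg, map_neg, ha, map_neg]
  | mem z hz =>
    obtain ⟨v, rfl⟩ := hz
    rw [mon, DRPoincare.wedge_ιMulti]
    exact hd.1 q p fun k => Sum.elim (algebraMap B P) X (v k)

variable (hDb : ∀ (c : B) (e : Fin n →₀ ℕ),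
  D (c • b e) = b e • D (algebraMap B P c) + ∑ j, dn b j (c • b e) • D (X j))

include hφ hDb in
lemma phi_D (c : B) (e : Fin n →₀ ℕ) : φ (D (c • b e)) = dn b i (c • b e) := by
  rw [hDb, map_add, map_sum, map_smul]
  have h1 := hφ (Sum.inl c)
  simp only [Sum.elim_inl, reduceCtorEq, if_false] at h1
  rw [h1, smul_zero, zero_add, Finset.sum_eq_single i]
  · have h2 := hφ (Sum.inr i)
    simp only [Sum.elim_inr, if_true] at h2
    rw [map_smul, h2, smul_eq_mul, mul_one]
  · intro j _ hj
    have h2 := hφ (Sum.inr j)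
    simp only [Sum.elim_inr, Sum.inr.injEq, hj, if_false] at h2
    rw [map_smul, h2, smul_zero]
  · simp

include hvv hd hDb in
/-- Differentiation against integration. -/
lemma d_integ (q : ℕ) (c : B) (e : Fin n →₀ ℕ) {x : ↥(⋀[P]^q M)} (hx : x ∈ Cst (B := B) D X q) :
    d q (up b i (c • b e) • x) = integ b i hf (q + 1) (d q ((c • b e) • x)) +
      pz b i (c • b e) • DRPoincare.wedge q (D (X i)) x := by
  have hw : ∀ m : Fin n → P, DRPoincare.wedge q (∑ j, m j • D (X j)) x =
      ∑ j, m j • DRPoincare.wedge q (D (X j)) x := fun m => by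
    classical
    induction (Finset.univ : Finset (Fin n)) using Finset.induction_on with
    | empty => rw [Finset.sum_empty, Finset.sum_empty, DRPoincare.wedge_zero]
    | insert a s ha ih => rw [Finset.sum_insert ha, Finset.sum_insert ha, DRPoincare.wedge_add,
        DRPoincare.wedge_smul, ih]
  have hup : up b i (c • b e) = c • b (e.update i (e i + 1)) := by rw [map_smul, up_b]
  rw [d_smul_cst hd q _ hx, d_smul_cst hd q _ hx, hDb, DRPoincare.wedge_add, DRPoincare.wedge_smul, hw,
    map_add, map_sum, integ_smul i hf vv hvv _ _ (by simpa using wedge_mem (Sum.inl c) hx), up_b]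
  conv_lhs => rw [hup, hDb, DRPoincare.wedge_add, DRPoincare.wedge_smul, hw, ← hup]
  rw [add_assoc]
  congr 1
  rw [← sub_eq_iff_eq_add', ← Finset.sum_sub_distrib, Finset.sum_eq_single i]
  · rw [integ_smul i hf vv hvv _ _ (by simpa using wedge_mem (Sum.inr i) hx), dn_up, up_dn]
    refine (sub_smul _ _ _).symm.trans ?_
    rw [sub_sub_cancel]
  · intro j _ hj
    rw [integ_smul i hf vv hvv _ _ (by simpa using wedge_mem (Sum.inr j) hx), dn_up_comm b i hj, sub_self]
  · simp

variable (b φ d) in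
/-- `d h + h d`. -/
noncomputable def homK : ∀ q : ℕ, AddMonoid.End ↥(⋀[P]^q M)
  | 0 => ((integ b i hf 0).toAddMonoidHom.comp
      ((DRPoincare.contr φ 0).toAddMonoidHom.comp (d 0).toAddMonoidHom))
  | q + 1 => ((d q).toAddMonoidHom.comp
      ((integ b i hf q).toAddMonoidHom.comp (DRPoincare.contr φ q).toAddMonoidHom)) +
      ((integ b i hf (q + 1)).toAddMonoidHom.comp
        ((DRPoincare.contr φ (q + 1)).toAddMonoidHom.comp (d (q + 1)).toAddMonoidHom))

include hvv hd hDb hφ in
lemma homK_gen : ∀ (q : ℕ) (c : B) (e : Fin n →₀ ℕ) (v : Fin q → B ⊕ Fin n),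
    (c • b e) • mon D X q v - homK b i φ hf d q ((c • b e) • mon D X q v) =
      if e i = 0 ∧ ∀ k, v k ≠ Sum.inr i then (c • b e) • mon D X q v else 0
  | 0, c, e, v => by
    have key : homK b i φ hf d 0 ((c • b e) • mon D X 0 v) = (c • b e - pz b i (c • b e)) • mon D X 0 v := by
      change integ b i hf 0 (DRPoincare.contr φ 0 (d 0 _)) = _
      rw [d_smul_cst hd 0 _ (mon_mem 0 v), DRPoincare.contr_wedge_zero, phi_D i hφ hDb,
        integ_smul i hf vv hvv _ _ (mon_mem 0 v), up_dn]
    rw [key]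
    refine (sub_smul _ _ _).symm.trans ?_
    rw [sub_sub_cancel, map_smul, pz_b]
    by_cases h : e i = 0
    · rw [if_pos h, if_pos ⟨h, fun k => k.elim0⟩]
    · rw [if_neg h, if_neg (fun h' => h h'.1), smul_zero, zero_smul]
  | q + 1, c, e, v => by
    obtain ⟨h1, h2⟩ := contr_mon i hφ q v
    have key : homK b i φ hf d (q + 1) ((c • b e) • mon D X (q + 1) v) = (c • b e) • mon D X (q + 1) v -
        pz b i (c • b e) • (mon D X (q + 1) v -
          DRPoincare.wedge q (D (X i)) (DRPoincare.contr φ q (mon D X (q + 1) v))) := by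
      have e2 : ∀ y : ↥(⋀[P]^(q + 1) M), (c • b e - pz b i (c • b e)) • y =
          (c • b e) • y - pz b i (c • b e) • y := fun y => sub_smul (c • b e) (pz b i (c • b e)) y
      change d q (integ b i hf q (DRPoincare.contr φ q _)) +
        integ b i hf (q + 1) (DRPoincare.contr φ (q + 1) (d (q + 1) _)) = _
      rw [map_smul, integ_smul i hf vv hvv _ _ h1, d_integ i hf vv hvv hd hDb q c e h1,
        d_smul_cst hd (q + 1) _ (mon_mem _ v), DRPoincare.contr_wedge, phi_D i hφ hDb, map_sub,
        integ_smul i hf vv hvv _ _ (mon_mem _ v), up_dn, d_smul_cst hd q _ h1, smul_sub, e2]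
      abel
    rw [key, h2, sub_sub_cancel, map_smul, pz_b]
    by_cases h : e i = 0
    · rw [if_pos h]
      by_cases h' : ∃ k, v k = Sum.inr i
      · rw [if_pos h', if_neg (fun h'' => h'.elim fun k hk => h''.2 k hk), smul_zero]
      · rw [if_neg h', if_pos ⟨h, fun k hk => h' ⟨k, hk⟩⟩]
    · rw [if_neg h, smul_zero, zero_smul, if_neg (fun h'' => h h''.1)]

lemma homK_closed : ∀ (q : ℕ) {ξ : ↥(⋀[P]^q M)}, d q ξ = 0 →
    homK b i φ hf d q ξ ∈ DeRham.coboundaries d q
  | 0, ξ, h => by
    change integ b i hf 0 (DRPoincare.contr φ 0 (d 0 ξ)) ∈ _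
    rw [h, map_zero, map_zero]
    exact zero_mem _
  | q + 1, ξ, h => by
    change d q (integ b i hf q (DRPoincare.contr φ q ξ)) +
      integ b i hf (q + 1) (DRPoincare.contr φ (q + 1) (d (q + 1) ξ)) ∈ _
    rw [h, map_zero, map_zero, add_zero]
    exact ⟨_, rfl⟩

end Groth.Agent.DPdR
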