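import Groth.Agent.S18421
import Groth.Agent.DPowLib.Poly

/-!
The universal divided power polynomial algebra has the monomial basis.
-/

set_option autoImplicit false
set_option backward.isDefEq.respectTransparency false
set_option linter.style.haveILetI false
set_option linter.unusedSectionVars false

universe u v

open scoped TensorProduct

namespace Groth.Agent.DPdR

/-- The universal divided power algebra on `n` variables is free on divided monomials, and its ideal is the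
expected one. -/
theorem exists_basis {B : Type u} [CommRing B] {J : Ideal B} (δ : DividedPowers J) {n : ℕ}
    {P : Type u} [CommRing P] [Algebra B P] {JP : Ideal P} (δP : DividedPowers JP) (X : Fin n → P)
    (hX : ∀ i, X i ∈ JP) (hmor : δ.IsDPMorphism δP (algebraMap B P))
    (huniv : ∀ (C : Type u) [CommRing C] [Algebra B C] (K : Ideal C) (ε : DividedPowers K),
      δ.IsDPMorphism ε (algebraMap B C) → ∀ k : Fin n → C, (∀ i, k i ∈ K) →
        ∃! φ : P →ₐ[B] C, (∀ i, φ (X i) = k i) ∧ δP.IsDPMorphism ε φ.toRingHom) :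
    ∃ b : Module.Basis (Fin n →₀ ℕ) B P, (∀ e : Fin n →₀ ℕ, b e = e.prod fun i k => δP.dpow k (X i)) ∧
      JP ≤ J.map (algebraMap B P) ⊔
        Ideal.span {y : P | ∃ (i : Fin n) (k : ℕ), 1 ≤ k ∧ y = δP.dpow k (X i)} := by
  obtain ⟨x₀, b₀, -, hx0, hxmul, hb₀, -⟩ := DPowLib.exists_int_model n
  let Q : Type u := B ⊗[ℤ] ↥(DPowLib.zdp n)
  let x : Fin n → ℕ → Q := fun i k => (1 : B) ⊗ₜ x₀ i k
  let bQ : Module.Basis (Fin n →₀ ℕ) B Q := b₀.baseChange B
  have hbQ : ∀ e : Fin n →₀ ℕ, bQ e = e.prod fun i k => x i k := fun e => by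
    rw [Module.Basis.baseChange_apply, hb₀]
    exact map_finsuppProd (Algebra.TensorProduct.includeRight : ↥(DPowLib.zdp n) →ₐ[ℤ] Q) _ _
  have hQ0 : ∀ i, x i 0 = 1 := fun i => by
    show (1 : B) ⊗ₜ x₀ i 0 = _
    rw [hx0]; rfl
  have hQmul : ∀ i k m, x i k * x i m = ((k + m).choose k : Q) * x i (k + m) := fun i k m => by
    show (Algebra.TensorProduct.includeRight : ↥(DPowLib.zdp n) →ₐ[ℤ] Q) (x₀ i k) *
      (Algebra.TensorProduct.includeRight : ↥(DPowLib.zdp n) →ₐ[ℤ] Q) (x₀ i m) = _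
    rw [← map_mul, hxmul, map_mul, map_natCast]
    rfl
  obtain ⟨δplus, hδplus⟩ := S18420.exists_dp B n Q x hQ0 hQmul bQ hbQ
  obtain ⟨δQ, ⟨hQmor, hQplus⟩, -⟩ := S18421.result B δ (Fin n) Q x hQ0 hQmul bQ hbQ δplus hδplus
  have hmem1 : ∀ i, x i 1 ∈ Ideal.span {y : Q | ∃ (l : Fin n) (k : ℕ), 1 ≤ k ∧ y = x l k} := fun i =>
    Ideal.subset_span ⟨i, 1, le_rfl, rfl⟩
  obtain ⟨φ, ⟨hφX, hφ⟩, -⟩ := huniv Q _ δQ hQmor (fun i => x i 1) fun i => Ideal.mem_sup_right (hmem1 i)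
  have hφk : ∀ i k, φ (δP.dpow k (X i)) = x i k := fun i k => by
    have h := hφ.dpow_comp (n := k) (X i) (hX i)
    rw [show φ.toRingHom (X i) = x i 1 from hφX i, hQplus k _ (hmem1 i), hδplus] at h
    exact h.symm
  obtain ⟨ψ, hψ⟩ := DPowLib.exists_desc (R := B) hQ0 hQmul bQ hbQ (fun i k => δP.dpow k (X i))
    (fun i => δP.dpow_zero (hX i)) (fun i k m => δP.mul_dpow (hX i))
  have hmor' : DividedPowers.IsDPMorphism δQ δP ψ.toRingHom := by
    refine DividedPowers.IsDPMorphism.on_span δQ δP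
      (S := (algebraMap B Q '' (J : Set B)) ∪ {y : Q | ∃ (l : Fin n) (k : ℕ), 1 ≤ k ∧ y = x l k})
      (by rw [Ideal.span_union]; rfl) ?_ ?_
    · rintro s (⟨a, ha, rfl⟩ | ⟨i, k, hk, rfl⟩)
      · rw [show ψ.toRingHom (algebraMap B Q a) = algebraMap B P a from ψ.commutes a]
        exact hmor.ideal_comp (Ideal.mem_map_of_mem _ ha)
      · rw [show ψ.toRingHom (x i k) = δP.dpow k (X i) from hψ i k]
        exact δP.dpow_mem (by omega) (hX i)
    · rintro m s (⟨a, ha, rfl⟩ | ⟨i, k, hk, rfl⟩)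
      · rw [hQmor.dpow_comp a ha, show ψ.toRingHom (algebraMap B Q _) = algebraMap B P _ from ψ.commutes _,
          show ψ.toRingHom (algebraMap B Q a) = algebraMap B P a from ψ.commutes a, hmor.dpow_comp a ha]
      · rw [show ψ.toRingHom (x i k) = δP.dpow k (X i) from hψ i k, δP.dpow_comp (by omega) (hX i),
          hQplus m _ (Ideal.subset_span ⟨i, k, hk, rfl⟩)]
        conv_lhs => rw [← hδplus i k, δplus.dpow_comp (by omega) (hmem1 i), hδplus, map_mul, map_natCast]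
        rw [show ψ.toRingHom (x i (m * k)) = δP.dpow (m * k) (X i) from hψ i _]
  have h1 : ψ.comp φ = AlgHom.id B P := by
    obtain ⟨χ, -, hu⟩ := huniv P JP δP hmor X hX
    have e1 : ψ.comp φ = χ := hu (ψ.comp φ) ⟨fun i => by
      show ψ (φ (X i)) = X i
      rw [hφX, hψ, δP.dpow_one (hX i)], DividedPowers.IsDPMorphism.comp δP hmor' hφ⟩
    have e2 : AlgHom.id B P = χ := hu (AlgHom.id B P) ⟨fun i => rfl, ⟨fun y hy => by
      rw [show (AlgHom.id B P).toRingHom = RingHom.id P from rfl, Ideal.map_id] at hy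
      exact hy, fun a _ => rfl⟩⟩
    rw [e1, e2]
  have h2 : φ.comp ψ = AlgHom.id B Q := DPowLib.algHom_ext hQ0 bQ hbQ fun i k => by
    show φ (ψ (x i k)) = x i k
    rw [hψ, hφk]
  let e : Q ≃ₐ[B] P := AlgEquiv.ofAlgHom ψ φ h1 h2
  refine ⟨bQ.map e.toLinearEquiv, fun s => ?_, fun y hy => ?_⟩
  · rw [Module.Basis.map_apply, hbQ]
    show ψ _ = _
    rw [map_finsuppProd]
    simp only [hψ]
  · have hy' := hφ.ideal_comp (Ideal.mem_map_of_mem φ.toRingHom hy)
    have h3 := Ideal.mem_map_of_mem ψ.toRingHom hy'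
    rw [show ψ.toRingHom (φ.toRingHom y) = y from DFunLike.congr_fun h1 y, Ideal.map_sup, Ideal.map_map,
      show ψ.toRingHom.comp (algebraMap B Q) = algebraMap B P from ψ.comp_algebraMap, Ideal.map_span] at h3
    refine (sup_le_sup le_rfl (Ideal.span_mono ?_) : _ ≤ J.map (algebraMap B P) ⊔
      Ideal.span {y : P | ∃ (i : Fin n) (k : ℕ), 1 ≤ k ∧ y = δP.dpow k (X i)}) h3
    rintro _ ⟨_, ⟨i, k, hk, rfl⟩, rfl⟩
    exact ⟨i, k, hk, hψ i k⟩

end Groth.Agent.DPdR
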