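import Mathlib
import Groth.Agent.DPowLib.Poly

/-!
Partial derivatives and integrals on a divided power polynomial algebra.
-/

set_option autoImplicit false
set_option linter.style.haveILetI false
set_option linter.unusedSectionVars false

universe u v

namespace Groth.Agent.DPdR

variable {B : Type u} {P : Type v} [CommRing B] [CommRing P] [Algebra B P] {n : ℕ}
  (b : Module.Basis (Fin n →₀ ℕ) B P) (i : Fin n)

/-- The partial derivative. -/
noncomputable def dn : P →ₗ[B] P :=
  b.constr B fun e => if e i = 0 then 0 else b (e.update i (e i - 1))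

/-- The integral. -/
noncomputable def up : P →ₗ[B] P := b.constr B fun e => b (e.update i (e i + 1))

/-- The part free of the variable. -/
noncomputable def pz : P →ₗ[B] P := b.constr B fun e => if e i = 0 then b e else 0

lemma dn_b (e : Fin n →₀ ℕ) : dn b i (b e) = if e i = 0 then 0 else b (e.update i (e i - 1)) :=
  b.constr_basis B _ e

lemma up_b (e : Fin n →₀ ℕ) : up b i (b e) = b (e.update i (e i + 1)) := b.constr_basis B _ e

lemma pz_b (e : Fin n →₀ ℕ) : pz b i (b e) = if e i = 0 then b e else 0 := b.constr_basis B _ e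

lemma update_comm' (e : Fin n →₀ ℕ) {i j : Fin n} (h : i ≠ j) (a c : ℕ) :
    (e.update i a).update j c = (e.update j c).update i a := by
  ext k
  simp only [Finsupp.coe_update, Function.update_apply]
  split_ifs with h1 h2 <;> first | rfl | exact absurd (h2.symm.trans h1) h

lemma update_update' (e : Fin n →₀ ℕ) (i : Fin n) (a c : ℕ) : (e.update i a).update i c = e.update i c := by
  ext k
  simp only [Finsupp.coe_update, Function.update_apply]
  split_ifs <;> rfl

/-- `∂ ∫ = 1`. -/
lemma dn_up (p : P) : dn b i (up b i p) = p := by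
  suffices h : dn b i ∘ₗ up b i = LinearMap.id from LinearMap.congr_fun h p
  refine b.ext fun e => ?_
  rw [LinearMap.comp_apply, up_b, dn_b, LinearMap.id_apply]
  simp only [Finsupp.coe_update, Function.update_self, Nat.add_one_ne_zero, if_false, Nat.add_sub_cancel,
    update_update', Finsupp.update_self]

/-- `∫ ∂ = 1 - (value at zero)`. -/
lemma up_dn (p : P) : up b i (dn b i p) = p - pz b i p := by
  suffices h : up b i ∘ₗ dn b i = LinearMap.id - pz b i from LinearMap.congr_fun h p
  refine b.ext fun e => ?_
  rw [LinearMap.comp_apply, LinearMap.sub_apply, LinearMap.id_apply, dn_b, pz_b]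
  split_ifs with h
  · rw [map_zero, sub_self]
  · rw [up_b, sub_zero]
    simp only [Finsupp.coe_update, Function.update_self, update_update',
      Nat.sub_add_cancel (Nat.pos_of_ne_zero h), Finsupp.update_self]

lemma dn_up_comm {j : Fin n} (h : j ≠ i) (p : P) : dn b j (up b i p) = up b i (dn b j p) := by
  suffices h' : dn b j ∘ₗ up b i = up b i ∘ₗ dn b j from LinearMap.congr_fun h' p
  refine b.ext fun e => ?_
  rw [LinearMap.comp_apply, LinearMap.comp_apply, up_b, dn_b, dn_b]
  simp only [Finsupp.coe_update, Function.update_of_ne h]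
  split_ifs with h0
  · rw [map_zero]
  · rw [up_b]
    simp only [Finsupp.coe_update, Function.update_of_ne h.symm]
    rw [update_comm' e h.symm]

section Mul

variable {x : Fin n → ℕ → P} (hx0 : ∀ i, x i 0 = 1)
  (hxmul : ∀ i n m, x i n * x i m = ((n + m).choose n : P) * x i (n + m))
  (hb : ∀ e : Fin n →₀ ℕ, b e = e.prod fun i k => x i k)

include hb in
lemma b_zero : b 0 = 1 := by rw [hb, Finsupp.prod_zero_index]

include hx0 hb in
lemma b_eq (e : Fin n →₀ ℕ) : b e = x i (e i) * b (e.erase i) := by
  rw [hb, hb, ← Finsupp.mul_prod_erase' e i (fun i k => x i k) fun a => hx0 a]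

include hx0 hb in
lemma b_update (e : Fin n →₀ ℕ) (k : ℕ) : b (e.update i k) = x i k * b (e.erase i) := by
  rw [b_eq b i hx0 hb]
  congr 2
  · simp
  · ext l
    simp only [Finsupp.erase_apply, Finsupp.coe_update, Function.update_apply]
    split_ifs <;> rfl

include hx0 hxmul hb in
lemma b_mul (e e' : Fin n →₀ ℕ) : ∃ N : ℕ, b e * b e' = (N : P) * b (e + e') :=
  ⟨∏ j, (e j + e' j).choose (e j), by
    simp only [DPowLib.basis_eq hx0 b hb]
    rw [DPowLib.prod_rel x hxmul, Nat.cast_prod]⟩

include hx0 hxmul hb in
lemma dn_mul (p q : P) : dn b i (p * q) = p * dn b i q + q * dn b i p := by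
  suffices h : (LinearMap.mul B P).compr₂ (dn b i) =
      (LinearMap.mul B P).compl₂ (dn b i) + ((LinearMap.mul B P).compl₂ (dn b i)).flip from
    LinearMap.congr_fun₂ h p q
  refine b.ext fun e => b.ext fun e' => ?_
  simp only [LinearMap.compr₂_apply, LinearMap.mul_apply', LinearMap.add_apply, LinearMap.compl₂_apply,
    LinearMap.flip_apply]
  obtain ⟨N, hN⟩ := b_mul b hx0 hxmul hb (e.erase i) (e'.erase i)
  have he : (e + e').erase i = e.erase i + e'.erase i := Finsupp.erase_add i e e'
  have h1 : b e * b e' = (((e i + e' i).choose (e i) * N : ℕ) : P) * b (e + e') := by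
    rw [b_eq b i hx0 hb e, b_eq b i hx0 hb e', b_eq b i hx0 hb (e + e'), mul_mul_mul_comm, hxmul, hN, he,
      Finsupp.add_apply]
    push_cast
    ring
  have hu : ∀ f : Fin n →₀ ℕ, dn b i (b f) = (if f i = 0 then 0 else x i (f i - 1)) * b (f.erase i) := fun f => by
    rw [dn_b, b_update b i hx0 hb]
    split_ifs <;> simp
  rw [h1, ← nsmul_eq_mul, map_nsmul, nsmul_eq_mul, hu, hu, hu, Finsupp.add_apply, he,
    b_eq b i hx0 hb e, b_eq b i hx0 hb e']
  have key : x i (e i) * (if e' i = 0 then 0 else x i (e' i - 1)) +
      x i (e' i) * (if e i = 0 then 0 else x i (e i - 1)) =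
      ((e i + e' i).choose (e i) : P) * (if e i + e' i = 0 then 0 else x i (e i + e' i - 1)) := by
    rcases h1 : e i with _ | a <;> rcases h2 : e' i with _ | c
    · simp
    · simp [hx0]
    · simp [hx0]
    · simp only [Nat.add_one_ne_zero, if_false, Nat.add_sub_cancel]
      rw [if_neg (by omega), hxmul, hxmul, show a + 1 + c = a + c + 1 by omega, show c + 1 + a = a + c + 1 by omega,
        show a + 1 + (c + 1) - 1 = a + c + 1 by omega, show a + 1 + (c + 1) = (a + c + 1) + 1 by omega,
        Nat.choose_succ_succ' (a + c + 1) a,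
        Nat.choose_symm_of_eq_add (show a + c + 1 = (c + 1) + a by omega)]
      push_cast
      ring
  calc ((((e i + e' i).choose (e i) * N : ℕ) : P)) *
        ((if e i + e' i = 0 then 0 else x i (e i + e' i - 1)) * b (e.erase i + e'.erase i))
      = (((e i + e' i).choose (e i) : P) * (if e i + e' i = 0 then 0 else x i (e i + e' i - 1))) *
          ((N : P) * b (e.erase i + e'.erase i)) := by push_cast; ring
    _ = _ := by rw [← key, ← hN]; ring

/-- The partial derivative as a derivation. -/
noncomputable def dnDer : Derivation B P P :=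
  Derivation.mk' (dn b i) fun p q => dn_mul b i hx0 hxmul hb p q

include hx0 hb in
lemma x_eq (k : ℕ) : x i k = b (Finsupp.single i k) := DPowLib.x_eq_basis hx0 b hb i k

include hx0 hb in
lemma dn_x (j : Fin n) (k : ℕ) : dn b i (x j (k + 1)) = if j = i then x j k else 0 := by
  rw [x_eq b j hx0 hb, x_eq b j hx0 hb, dn_b]
  split_ifs with h0 h1 h2
  · subst h1; simp at h0
  · rfl
  · subst h2
    congr 1
    ext l
    simp [Finsupp.single_apply, Function.update_apply, eq_comm]
    split_ifs <;> rfl
  · simp [Finsupp.single_eq_of_ne (Ne.symm h2)] at h0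

end Mul

end Groth.Agent.DPdR
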